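import Cfsg.Agent.Mult.Fam

set_option autoImplicit false
set_option Elab.async false
set_option maxRecDepth 100000
set_option linter.all false

namespace Cfsg.Agent.O73C
open Cfsg.Agent.CGT

open Cfsg.Agent.Mult

noncomputable def ix : Ix (Unit ⊕ (Fin 3 ⊕ Fin 3)) := ⟨Sum.elim (fun _ => 0) (Sum.elim (1 + ·.1) (4 + ·.1)), 7, by decide, by decide, by decide⟩
noncomputable def Es : List (List ℕ × List ℕ × ℕ) := [([0, 1, 0, 0, 0, 0, 0], [1, 0, 0, 0, 0, 0, 0], 1), ([0, 1, 0, 0, 0, 0, 0], [2, 0, 0, 0, 0, 0, 0], 1), ([0, 1, 0, 0, 0, 0, 0], [0, 0, 1, 0, 0, 0, 0], 0), ([0, 1, 0, 0, 0, 0, 0], [0, 0, 2, 0, 0, 0, 0], 0), ([0, 1, 0, 0, 0, 0, 0], [0, 0, 0, 1, 0, 0, 0], 0), ([0, 1, 0, 0, 0, 0, 0], [0, 0, 0, 2, 0, 0, 0], 0), ([0, 1, 0, 0, 0, 0, 0], [0, 0, 0, 0, 0, 1, 0], 0), ([0,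 1, 0, 0, 0, 0, 0], [0, 0, 0, 0, 0, 2, 0], 0), ([0, 1, 0, 0, 0, 0, 0], [0, 0, 0, 0, 0, 0, 1], 0), ([0, 1, 0, 0, 0, 0, 0], [0, 0, 0, 0, 0, 0, 2], 0), ([0, 0, 0, 0, 1, 0, 0], [1, 0, 0, 0, 0, 0, 0], 1), ([0, 0, 0, 0, 1, 0, 0], [2, 0, 0, 0, 0, 0, 0], 1), ([0, 0, 0, 0, 1, 0, 0], [0, 0, 1, 0, 0, 0, 0], 0), ([0, 0, 0, 0, 1, 0, 0], [0, 0, 2, 0, 0, 0, 0], 0), ([0, 0, 0, 0, 1, 0, 0], [0, 0, 0, 1, 0, 0, 0], 0), ([0, 0, 0, 0, 1, 0, 0], [0, 0, 0, 2, 0, 0, 0], 0), ([0, 0, 0, 0, 1, 0, 0], [0, 0, 0, 0, 0, 1, 0], 0), ([0, 0, 0, 0, 1, 0, 0], [0, 0, 0, 0, 0, 2, 0], 0), ([0, 0, 0, 0, 1, 0, 0], [0, 0, 0, 0, 0, 0, 1], 0), ([0, 0, 0, 0, 1, 0, 0], [0, 0, 0, 0, 0, 0, 2], 0)]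
noncomputable def Bs : List Pl := [[(0x11, 0), (3, 0x10), (4, 0), (8, 0), (0x10, 0), (0x20, 0), (0x40, 0)],
  [(1, 0x10), (2, 0x11), (4, 0), (8, 0), (0x10, 0), (0x20, 0), (0x40, 0)],
  [(1, 0), (2, 0x20), (0x14, 0), (8, 0), (0x10, 0), (0x20, 0), (0x40, 0)],
  [(1, 0), (0x22, 0), (4, 0x10), (8, 0), (0x10, 0), (0x20, 0), (0x40, 0)],
  [(1, 0), (2, 0x40), (4, 0), (0x18, 0), (0x10, 0), (0x20, 0), (0x40, 0)],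
  [(1, 0), (0x42, 0), (4, 0), (8, 0x10), (0x10, 0), (0x20, 0), (0x40, 0)],
  [(1, 0), (2, 4), (4, 0), (8, 0), (0x10, 0), (0x30, 0), (0x40, 0)],
  [(1, 0), (6, 0), (4, 0), (8, 0), (0x10, 0), (0x20, 0x10), (0x40, 0)],
  [(1, 0), (2, 8), (4, 0), (8, 0), (0x10, 0), (0x20, 0), (0x50, 0)],
  [(1, 0), (0xa, 0), (4, 0), (8, 0), (0x10, 0), (0x20, 0), (0x40, 0x10)],
  [(3, 0), (2, 0), (4, 0), (8, 0), (0x11, 2), (0x20, 0), (0x40, 0)],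
  [(1, 2), (2, 0), (4, 0), (8, 0), (0x10, 3), (0x20, 0), (0x40, 0)],
  [(1, 0), (2, 0), (6, 0), (8, 0), (0x10, 0x20), (0x20, 0), (0x40, 0)],
  [(1, 0), (2, 0), (4, 2), (8, 0), (0x30, 0), (0x20, 0), (0x40, 0)],
  [(1, 0), (2, 0), (4, 0), (0xa, 0), (0x10, 0x40), (0x20, 0), (0x40, 0)],
  [(1, 0), (2, 0), (4, 0), (8, 2), (0x50, 0), (0x20, 0), (0x40, 0)],
  [(1, 0), (2, 0), (4, 0), (8, 0), (0x10, 4), (0x22, 0), (0x40, 0)],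
  [(1, 0), (2, 0), (4, 0), (8, 0), (0x14, 0), (0x20, 2), (0x40, 0)],
  [(1, 0), (2, 0), (4, 0), (8, 0), (0x10, 8), (0x20, 0), (0x42, 0)],
  [(1, 0), (2, 0), (4, 0), (8, 0), (0x18, 0), (0x20, 0), (0x40, 2)]]
theorem h_base : (kpO (quadFormOdd 3 (ZMod 3))).Gen kf3 ix [0, 1, 0, 0, 0, 0, 0] [0, 0, 0, 0, 1, 0, 0] Es Bs := by decide +kernel

end Cfsg.Agent.O73C
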