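import Cfsg.Agent.Mult.Slices
import Cfsg.Agent.O73C.CertT0
import Cfsg.Agent.O73C.CertT1

set_option autoImplicit false
set_option Elab.async false
set_option maxRecDepth 100000
set_option linter.all false

namespace Cfsg.Agent.O73C
open Cfsg.Agent.CGT

open Cfsg.Agent.Mult

noncomputable def c_l0 : Level := ⟨4, [[0], [2], [4], [6], [8], [10], [12], [14]], [0, 1, 2, 3, 4, 5, 1, 6, 4, 0, 2, 6, 1, 2], 0xfffffffffffffffffffffffffffffffffffffffffffffffffffffffffffffffffffffffffffffffffffffffffff, 364⟩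
noncomputable def c_l1 : Level := ⟨49, [[2], [4], [6], [8], [10], [12], [14]], [0, 1, 2, 3, 5, 0, 6, 1, 4, 0, 2, 5, 0], 0xffffffffffffffffffffb93e14f1f387818f1e1e7813c78ffb8781e07f3fffffffffffffffffffe000000000000, 243⟩
noncomputable def c_l2 : Level := ⟨0, [[4], [6], [8], [10], [12], [14]], [0, 1, 2, 4, 0, 1, 3, 2, 1], 0x4060000428260000a082600000002826098040000000000000000000015014cc2600f, 40⟩
noncomputable def c_l3 : Level := ⟨1, [[6], [8], [10], [12], [14]], [0, 1, 2, 0, 1, 0], 0x806000000000000000020060000000000000000000000000000040c0000e, 12⟩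
noncomputable def c_l4 : Level := ⟨2, [[8], [10], [12], [14]], [0], 0xc, 2⟩
noncomputable def c_l5 : Level := ⟨13, [[10], [12], [14]], [0, 1, 2, 1, 0], 0x20006000000008000180000000000000000000000000000026000, 9⟩
noncomputable def c_l6 : Level := ⟨5, [[12], [14]], [0], 0x120, 2⟩
noncomputable def c_l7 : Level := ⟨22, [[14]], [0, 0], 0x2000000000000000000020000000000000000000000000000000400000, 3⟩
noncomputable def c_ls : List Level := [c_l0, c_l1, c_l2, c_l3, c_l4, c_l5, c_l6, c_l7]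
theorem c_l0_ok : (ptsOK 9 [] && (wordsIn [0, 2, 4, 6, 8, 10, 12, 14] c_l0.S && c_l0.ok 9 m_ns m_ts [])) = true := by decide +kernel
theorem c_l1_ok : (ptsOK 9 [4] && (wordsIn [0, 2, 4, 6, 8, 10, 12, 14] c_l1.S && c_l1.ok 9 m_ns m_ts [4])) = true := by decide +kernel
theorem c_l2_ok : (ptsOK 9 [49, 4] && (wordsIn [0, 2, 4, 6, 8, 10, 12, 14] c_l2.S && c_l2.ok 9 m_ns m_ts [49, 4])) = true := by decide +kernel
theorem c_l3_ok : (ptsOK 9 [0, 49, 4] && (wordsIn [0, 2, 4, 6, 8, 10, 12, 14] c_l3.S && c_l3.ok 9 m_ns m_ts [0, 49, 4])) = true := by decide +kernel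
theorem c_l4_ok : (ptsOK 9 [1, 0, 49, 4] && (wordsIn [0, 2, 4, 6, 8, 10, 12, 14] c_l4.S && c_l4.ok 9 m_ns m_ts [1, 0, 49, 4])) = true := by decide +kernel
theorem c_l5_ok : (ptsOK 9 [2, 1, 0, 49, 4] && (wordsIn [0, 2, 4, 6, 8, 10, 12, 14] c_l5.S && c_l5.ok 9 m_ns m_ts [2, 1, 0, 49, 4])) = true := by decide +kernel
theorem c_l6_ok : (ptsOK 9 [13, 2, 1, 0, 49, 4] && (wordsIn [0, 2, 4, 6, 8, 10, 12, 14] c_l6.S && c_l6.ok 9 m_ns m_ts [13, 2, 1, 0, 49, 4])) = true := by decide +kernel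
theorem c_l7_ok : (ptsOK 9 [5, 13, 2, 1, 0, 49, 4] && (wordsIn [0, 2, 4, 6, 8, 10, 12, 14] c_l7.S && c_l7.ok 9 m_ns m_ts [5, 13, 2, 1, 0, 49, 4])) = true := by decide +kernel
theorem c_sound {G : Type*} [Group G] {φ : G →* Equiv.Perm ℕ} {γ : ℕ → G}
    (M : Model φ γ 9 m_ns m_ts) : ChainSound φ (gp γ [0, 2, 4, 6, 8, 10, 12, 14]) 9 [] c_ls :=
  ⟨Level.ok_sound' M c_l0_ok,
   Level.ok_sound' M c_l1_ok,
   Level.ok_sound' M c_l2_ok,
   Level.ok_sound' M c_l3_ok,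
   Level.ok_sound' M c_l4_ok,
   Level.ok_sound' M c_l5_ok,
   Level.ok_sound' M c_l6_ok,
   Level.ok_sound' M c_l7_ok, trivial⟩
theorem cert {F : Type*} [Field F] [Fintype F] (hF : Fintype.card F = 3) (ψ : ZMod 3 ≃+* F) :
    ∃ (γ : ℕ → Cfsg.POmega F (Cfsg.quadFormOdd 3 F)) (φ : _), CGT.Cert φ γ 9 m_ns m_ts [0, 2, 4, 6, 8, 10, 12, 14] c_ls ∧ Holds (ext γ) qRR :=
  Co.Base.cert (C := stdCo kf3 ix ψ.toRingHom) (oodd_base (by rw [← map_ofNat ψ 2, ne_eq, map_eq_zero]; decide) ψ (by decide) h_base) h_der h_gen (scal_std h_sc) h_len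
    (uniq_lead h_len h_red h_lead) m_v h_fix (by decide +kernel)
    (fun j hj => by
    change j < 8 at hj
    interval_cases j
    exacts [h_a0, h_a1, h_a2, h_a3, h_a4, h_a5, h_a6, h_a7]) m_ts_ok (fun _ _ M => c_sound M) (allL_iff.1 h_r0) (fun _ h => qbd0 h) (by decide +kernel)

end Cfsg.Agent.O73C
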