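import Cfsg.Agent.Mult.Slices
import Cfsg.Agent.O73C.Tabs

set_option autoImplicit false
set_option Elab.async false
set_option maxRecDepth 100000
set_option linter.all false

namespace Cfsg.Agent.O73C
open Cfsg.Agent.CGT

open Cfsg.Agent.Mult

noncomputable def u3_D : PC := ⟨3, 9, 2, 28,
  [[0, 0x44, 0x26890, 0x440, 0x6100, 0x400, 0x25000, 0x4000, 0x10000], [0, 0x29800, 0x110, 0x1040, 0x12500, 0x4400, 0x15000, 0x14000, 0x10000], [0, 0, 0, 0x40, 0x20100, 0x10400, 0x11000, 0x24000, 0x10000], [0, 0, 0, 0, 0x20100, 0x400, 0x21000, 0x4000, 0x10000], [0, 0, 0, 0, 0, 0x10400, 0x11000, 0x4000, 0x10000], [0, 0, 0, 0, 0, 0, 0x1000, 0x4000, 0x10000], [0, 0, 0, 0, 0, 0, 0, 0x4000, 0x10000], [0, 0, 0, 0, 0, 0, 0, 0, 0x10000], [0, 0, 0, 0, 0, 0, 0, 0, 0]],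
  [0xcff, 0xfff, 0x3fc, 0x33, 0xf, 0, 0, 0, 0],
  [(9, 5, 0x26a05), (9, 0x40, 0x1a900), (9, 0x100, 0x2250), (9, 0x1000, 0x20a10), (9, 0x4000, 0x8a40), (9, 0x10000, 0x10000), (10, 1, 0x12441), (10, 0x14, 0x942), (10, 0x40, 0x28881), (10, 0x100, 0x155a8), (10, 0x400, 0x4400), (10, 0x1000, 0x21000), (10, 0x4000, 0x10000), (10, 0x10000, 0x8000)], 19, 0x40401050302070508030102060700060008⟩
noncomputable def u3_ds : List (List ℕ) := [[14, 0, 4, 0, 15, 10, 2, 15, 2, 12], [6, 4, 12, 4, 2, 8, 2, 15, 2, 10, 15, 0, 4, 10, 8], [10, 6, 0, 12, 8, 2, 14, 10, 12, 2, 4, 6, 2, 4, 0, 6], [6, 14, 0, 10, 2, 14, 0, 15, 4, 15, 2, 14, 2, 0], [4, 14, 0, 6, 14, 4, 2, 15, 10, 6, 15, 2, 8, 4, 12, 2], [15, 4, 2, 15, 2, 4, 6, 0, 6, 4, 0, 6, 8, 15, 2], [14, 4, 10, 2, 0, 12, 4, 12, 0, 6, 2, 14, 2, 6], [14, 0, 14, 10, 0, 10, 12, 0, 2, 10, 12,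 14, 2, 15], [14, 0, 2, 12, 15, 2, 14, 2, 15, 0, 15], [8, 8, 2, 2, 12, 8, 10, 0, 14, 8, 6, 15, 4, 2, 14], [12, 4, 0, 4, 2, 6, 2, 6, 10, 14, 2, 8, 2, 4, 6]]
noncomputable def u3_c : Mult.Cert := ⟨180, 24, [[], [], [], [1], [11], [3], [12], [14], [16]],
  [([51, 51], 1, 0x8a89884a5f5b013e642436d7b37207dfbaf)],
  [[0x115c7277eee42a18bf, 0, 0x8803012a38369ad01, 0, 0xa0eabc0b49750e76e, 0x5d3951e7edd9407a8, 0x132588283dc4adc4f4, 0x2ede38d69e1f0f193b, 0x11fb65cec62bd5c26e], [0, 0xb8473b2e97e1276da, 0, 0, 0x8fd461c967193b3d6, 0, 0xdf0408dc8a3eb3503, 0, 0x2d86489207c9e65f68], [0, 0, 0x241ba1063df8234226, 0xf395106c69cfe6ede, 0x167b91c39fd67caea5, 0x2a57566c32d382ffa, 0x1cfc186a6823114d68, 0x1fc860517f32806015, 0x11cb7b8180d8e476a1], [0, 0, 0, 0x115bc7390382013f81, 0x1c469a88495dc0be62, 0xb685b71e338605ccb, 0x32eda3ee20f5dc3deb,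 0x23c6dea1ab36d3d3be, 0x2396f60954acbaf6f6], [0, 0, 0, 0, 0x1203c63d9ff26adbe0, 0x13366ae196915a7ccd, 0x1a32dacdfbfa7965d, 0xddd67057c9e3304db, 0x707b22e170bff016], [0, 0, 0, 0, 0, 0x1637ed9b2612f36, 1, 0xdd726cabd5f9e0ab5, 0x1fa2a1cf67b5fb863], [0, 0, 0, 0, 0, 0, 0x23a9c26474381016b7, 0x11eab9aacc83e821ba, 0x257e60f5d03ffab2], [0, 0, 0, 0, 0, 0, 0, 0x277fdf4cb57706, 0x1517168a4523fd042], [0, 0, 0, 0, 0, 0, 0, 0, 0xd2a9fc43c7d02]]⟩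

end Cfsg.Agent.O73C
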